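import Groth.Agent.BlowSep.Stalk
import Groth.Agent.Props.SubIdeal

/-!
# Separating closures by blowing up a sum of two ideals
-/

set_option autoImplicit false

universe u

open CategoryTheory CategoryTheory.Limits AlgebraicGeometry TopologicalSpace

noncomputable section

namespace Groth.Agent.BlowSep

/-- After blowing up `I₁ + I₂` the closure of the preimage of `S` misses the closure over `V ∖ U`. -/
theorem disjoint_closure {X Z X' : Scheme.{u}} (p : Z ⟶ X) (U V : X.Opens) (S : Set Z)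
    (hS : ∀ z ∈ S, p z ∈ U) (𝓚 : Z.IdealSheafData) (hSK : S ⊆ (𝓚.support : Set Z))
    (𝓘₁ 𝓘₂ : X.IdealSheafData) (h₁ : (V : Set X) \ (U : Set X) ⊆ (𝓘₁.support : Set X))
    (h₁' : Disjoint (𝓘₁.support : Set X) (U : Set X)) (h₂ : Disjoint (𝓘₂.support : Set X) (V : Set X))
    (hincl : 𝓘₂.comap p ≤ (𝓘₁ * 𝓘₁).comap p ⊔ 𝓚)
    (q : X' ⟶ X) (hq : BlowUp.IsBlowUp q (𝓘₁ ⊔ 𝓘₂)) :
    Disjoint (closure ((pullback.fst p q) ⁻¹' S))
      ((fun z => (pullback.snd p q) z) ⁻¹'
        closure ((fun x' => q x') ⁻¹' ((V : Set X) \ (U : Set X)))) := by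
  classical
  rw [Set.disjoint_left]
  intro z hz hzx
  set π := pullback.fst p q
  set p' := pullback.snd p q
  have hcomm : π ≫ p = p' ≫ q := pullback.condition
  obtain ⟨U₀, hU₀, e, hend, he⟩ := hq.1 (p' z)
  set E := (𝓘₁ ⊔ 𝓘₂).comap q with hE
  have hx₀ : p' z ∈ U₀.1 := hU₀
  set ε := X'.presheaf.germ U₀.1 (p' z) hx₀ e with hε
  have hEst : IntMult.stalkIdeal E (p' z) = Ideal.span {ε} := by
    rw [Groth.Agent.IdealSh.stalkIdeal_eq _ U₀ hx₀, he, Ideal.map_span, Set.image_singleton]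
  have hcl : ∀ T : X'.Opens, p' z ∈ T → ∃ y ∈ T, q y ∈ V ∧ q y ∉ U := fun T hT => by
    obtain ⟨y, hyT, hyq⟩ := mem_closure_iff.mp hzx T T.2 hT
    exact ⟨y, hyT, hyq.1, hyq.2⟩
  -- the first ideal is not the whole of `E` at the point
  have hn1 : ε ∉ IntMult.stalkIdeal (𝓘₁.comap q) (p' z) := by
    intro hmem
    obtain ⟨T, hT, hle⟩ := Groth.Agent.BlowSep.exists_nhd_le U₀ hx₀ he hmem
    obtain ⟨y, hyT, hyV, hyU⟩ := hcl T hT
    have h2top : IntMult.stalkIdeal 𝓘₂ (q y) = ⊤ :=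
      (Groth.Agent.IdealSh.stalkIdeal_eq_top_iff _ _).mpr fun hm => Set.disjoint_left.mp h₂ hm hyV
    have hEtop : IntMult.stalkIdeal E y = ⊤ := by
      rw [hE, Groth.Agent.BlowSep.stalkIdeal_comap, Groth.Agent.BlowSep.stalkIdeal_sup, h2top, sup_top_eq,
        Ideal.map_top]
    have h1top := top_le_iff.mp (hEtop ▸ hle y hyT)
    rw [Groth.Agent.IdealSh.stalkIdeal_eq_top_iff] at h1top
    refine h1top ?_
    rw [Scheme.IdealSheafData.support_comap]
    exact h₁ ⟨hyV, hyU⟩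
  -- hence the second one is, and the first is inside `E` times the maximal ideal
  have hsup : IntMult.stalkIdeal (𝓘₁.comap q) (p' z) ⊔ IntMult.stalkIdeal (𝓘₂.comap q) (p' z) = Ideal.span {ε} := by
    rw [← hEst, hE, Groth.Agent.BlowSep.stalkIdeal_comap, Groth.Agent.BlowSep.stalkIdeal_comap,
      Groth.Agent.BlowSep.stalkIdeal_comap, ← Ideal.map_sup, Groth.Agent.BlowSep.stalkIdeal_sup]
  have h1le : IntMult.stalkIdeal (𝓘₁.comap q) (p' z) ≤ Ideal.span {ε} * IsLocalRing.maximalIdeal _ := by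
    intro a ha
    obtain ⟨r, rfl⟩ := Ideal.mem_span_singleton.mp (hsup ▸ Ideal.mem_sup_left ha : a ∈ Ideal.span {ε})
    refine Ideal.mul_mem_mul (Ideal.mem_span_singleton_self ε) ((IsLocalRing.mem_maximalIdeal r).mpr fun hu => hn1 ?_)
    exact (Ideal.mul_unit_mem_iff_mem _ hu).mp ha
  have h2mem : ε ∈ IntMult.stalkIdeal (𝓘₂.comap q) (p' z) := by
    obtain ⟨a, ha, b, hb, hab⟩ := Submodule.mem_sup.mp (hsup.symm ▸ Ideal.mem_span_singleton_self ε :
      ε ∈ IntMult.stalkIdeal (𝓘₁.comap q) (p' z) ⊔ IntMult.stalkIdeal (𝓘₂.comap q) (p' z))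
    obtain ⟨r, hr, rfl⟩ := Ideal.mem_span_singleton_mul.mp (h1le ha)
    refine (Ideal.mul_unit_mem_iff_mem _ (IsLocalRing.isUnit_one_sub_self_of_mem_nonunits r
      ((IsLocalRing.mem_maximalIdeal r).mp hr))).mp (?_ : ε * (1 - r) ∈ _)
    convert hb using 1
    rw [mul_sub, mul_one, sub_eq_iff_eq_add, add_comm, hab]
  -- upstairs
  set φ := (p'.stalkMap z).hom with hφ
  set K := 𝓚.comap π with hKdef
  have hcomap : ∀ I : X.IdealSheafData, (I.comap p).comap π = (I.comap q).comap p' := fun I => by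
    rw [← Scheme.IdealSheafData.comap_comp, hcomm, Scheme.IdealSheafData.comap_comp]
  have hK : φ ε ∈ IntMult.stalkIdeal K z := by
    have h3 : φ ε ∈ IntMult.stalkIdeal ((𝓘₂.comap q).comap p') z := by
      rw [Groth.Agent.BlowSep.stalkIdeal_comap]
      exact Ideal.mem_map_of_mem _ h2mem
    rw [← hcomap, Groth.Agent.BlowSep.stalkIdeal_comap] at h3
    have h4 := Ideal.map_mono (f := (π.stalkMap z).hom) (Groth.Agent.BlowSep.stalkIdeal_mono hincl (π z)) h3
    rw [Groth.Agent.BlowSep.stalkIdeal_sup, Ideal.map_sup, ← Groth.Agent.BlowSep.stalkIdeal_comap,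
      ← Groth.Agent.BlowSep.stalkIdeal_comap, hcomap, Groth.Agent.IdealSh.Comap.comap_mul,
      Groth.Agent.BlowSep.stalkIdeal_comap, Groth.Agent.IdealSh.stalkIdeal_mul] at h4
    have hle : (IntMult.stalkIdeal (𝓘₁.comap q) (p' z) * IntMult.stalkIdeal (𝓘₁.comap q) (p' z)).map φ ≤
        Ideal.span {φ ε} * IsLocalRing.maximalIdeal _ := by
      refine (Ideal.map_mono (Ideal.mul_le_left.trans h1le)).trans ?_
      rw [Ideal.map_mul, Ideal.map_span, Set.image_singleton]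
      exact Ideal.mul_mono le_rfl (Ideal.map_le_iff_le_comap.mpr fun a ha => map_nonunit φ a ha)
    obtain ⟨a, ha, b, hb, hab⟩ := Submodule.mem_sup.mp h4
    obtain ⟨t, ht, rfl⟩ := Ideal.mem_span_singleton_mul.mp (hle ha)
    refine (Ideal.mul_unit_mem_iff_mem _ (IsLocalRing.isUnit_one_sub_self_of_mem_nonunits t
      ((IsLocalRing.mem_maximalIdeal t).mp ht))).mp (?_ : φ ε * (1 - t) ∈ _)
    convert hb using 1
    rw [mul_sub, mul_one, sub_eq_iff_eq_add, add_comm, hab]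
  obtain ⟨W, hzW, hW⟩ := Groth.Agent.IdealSh.Comap.exists_affine_le z (p' ⁻¹ᵁ U₀.1) hx₀
  have heW : (E.comap p').ideal W = Ideal.span {(p'.appLE U₀.1 W.1 hW).hom e} :=
    Groth.Agent.IdealSh.Comap.ideal_comap_span_singleton E p' U₀ W hW he
  have hgerm : (pullback p q).presheaf.germ W.1 z hzW ((p'.appLE U₀.1 W.1 hW).hom e) ∈ IntMult.stalkIdeal K z := by
    convert hK using 1
    show (pullback p q).presheaf.germ W.1 z hzW ((pullback p q).presheaf.map (homOfLE hW).op (p'.app U₀.1 e)) = _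
    rw [(pullback p q).presheaf.germ_res_apply, hε, hφ, Scheme.Hom.germ_stalkMap_apply]
  obtain ⟨T, hzT, hT⟩ := Groth.Agent.BlowSep.exists_nhd_le W hzW heW hgerm
  obtain ⟨w, hwT, hwS⟩ := mem_closure_iff.mp hz T T.2 hzT
  have hqw : q (p' w) ∈ (U : Set X) := by
    rw [← Scheme.Hom.comp_apply, ← hcomm, Scheme.Hom.comp_apply]
    exact hS _ hwS
  have h1top : IntMult.stalkIdeal 𝓘₁ (q (p' w)) = ⊤ :=
    (Groth.Agent.IdealSh.stalkIdeal_eq_top_iff _ _).mpr fun hm => Set.disjoint_left.mp h₁' hm hqw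
  have hEtop : IntMult.stalkIdeal (E.comap p') w = ⊤ := by
    rw [Groth.Agent.BlowSep.stalkIdeal_comap, hE, Groth.Agent.BlowSep.stalkIdeal_comap,
      Groth.Agent.BlowSep.stalkIdeal_sup, h1top, top_sup_eq, Ideal.map_top, Ideal.map_top]
  have hKtop := top_le_iff.mp (hEtop ▸ hT _ hwT)
  rw [Groth.Agent.IdealSh.stalkIdeal_eq_top_iff] at hKtop
  refine hKtop ?_
  rw [hKdef, Scheme.IdealSheafData.support_comap]
  exact hSK hwS

/-- A finite type ideal with support in that of another has a power inside it. -/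
theorem exists_pow_le {X : Scheme.{u}} [CompactSpace X] (I J : X.IdealSheafData)
    (hI : BlowUp.IsFiniteTypeIdeal I) (h : (J.support : Set X) ⊆ (I.support : Set X)) :
    ∃ n : ℕ, I ^ n ≤ J := by
  classical
  have hrad : I ≤ J.radical := by
    rw [← Scheme.IdealSheafData.vanishingIdeal_support]
    exact Scheme.IdealSheafData.le_support_iff_le_vanishingIdeal.mp h
  obtain ⟨F, hF⟩ := isCompact_univ.elim_finite_subcover (fun W : X.affineOpens => ((W : X.Opens) : Set X))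
    (fun W => (W : X.Opens).isOpen) fun x _ => by
      obtain ⟨W, hW, hx, -⟩ := exists_isAffineOpen_mem_and_subset (X := X) (Opens.mem_top x)
      exact Set.mem_iUnion.mpr ⟨⟨W, hW⟩, hx⟩
  choose n hn using fun W : X.affineOpens => Ideal.exists_pow_le_of_le_radical_of_fg (hrad W) (hI W)
  refine ⟨F.sup n, Scheme.IdealSheafData.le_of_iSup_eq_top (fun W : F => W.1)
    (top_unique fun x _ => ?_) fun W => ?_⟩
  · obtain ⟨W, hW, hxW⟩ := Set.mem_iUnion₂.mp (hF (Set.mem_univ x))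
    exact Opens.mem_iSup.mpr ⟨⟨W, hW⟩, hxW⟩
  · rw [Scheme.IdealSheafData.ideal_pow]
    exact (Ideal.pow_le_pow_right (Finset.le_sup W.2)).trans (hn W.1)

end Groth.Agent.BlowSep
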