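import Mathlib.AlgebraicGeometry.Morphisms.Proper
import Mathlib.CategoryTheory.Limits.Shapes.WidePullbacks

/-!
# Finite fibre products of proper schemes are proper
-/

set_option autoImplicit false

universe u

open CategoryTheory CategoryTheory.Limits AlgebraicGeometry

noncomputable section

namespace Groth.Agent.BlowSep

theorem isProper_base {S : Scheme.{u}} : ∀ {m : ℕ} {Xb : Fin m → Scheme.{u}} (g : ∀ i, Xb i ⟶ S)
    [∀ i, IsProper (g i)], IsProper (WidePullback.base g) := by
  intro m
  induction m with
  | zero =>
    intro Xb g _
    haveI : IsIso (WidePullback.base g) :=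
      ⟨WidePullback.lift (𝟙 S) (fun i => i.elim0) (fun i => i.elim0),
        WidePullback.hom_ext _ _ _ (fun i => i.elim0) (by rw [Category.assoc, WidePullback.lift_base, Category.id_comp, Category.comp_id]), WidePullback.lift_base _ _ _ _⟩
    infer_instance
  | succ m ih =>
    intro Xb g _
    let g' : ∀ i : Fin m, Xb i.castSucc ⟶ S := fun i => g i.castSucc
    haveI := ih g'
    let φ : widePullback S Xb g ⟶ pullback (WidePullback.base g') (g (Fin.last m)) :=
      pullback.lift (WidePullback.lift (WidePullback.base g) (fun i => WidePullback.π g i.castSucc)
        (fun i => WidePullback.π_arrow g _)) (WidePullback.π g (Fin.last m))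
        (by rw [WidePullback.lift_base, WidePullback.π_arrow])
    let fs : ∀ i : Fin (m + 1), pullback (WidePullback.base g') (g (Fin.last m)) ⟶ Xb i :=
      Fin.lastCases (pullback.snd _ _) (fun i => pullback.fst _ _ ≫ WidePullback.π g' i)
    let ψ : pullback (WidePullback.base g') (g (Fin.last m)) ⟶ widePullback S Xb g :=
      WidePullback.lift (pullback.fst _ _ ≫ WidePullback.base g') fs fun i => by
        induction i using Fin.lastCases with
        | last => simp only [fs, Fin.lastCases_last]; exact pullback.condition.symm
        | cast i =>
          simp only [fs, Fin.lastCases_castSucc, Category.assoc]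
          rw [show g i.castSucc = g' i from rfl, WidePullback.π_arrow]
    have hb : φ ≫ pullback.fst _ _ ≫ WidePullback.base g' = WidePullback.base g := by
      rw [pullback.lift_fst_assoc]
      exact WidePullback.lift_base _ _ _ _
    have hp : ∀ i : Fin m, φ ≫ pullback.fst _ _ ≫ WidePullback.π g' i = WidePullback.π g i.castSucc := fun i => by
      rw [pullback.lift_fst_assoc]
      exact WidePullback.lift_π _ _ _ _ i
    have hl : φ ≫ pullback.snd _ _ = WidePullback.π g (Fin.last m) := pullback.lift_snd _ _ _
    have hψb : ψ ≫ WidePullback.base g = pullback.fst _ _ ≫ WidePullback.base g' :=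
      WidePullback.lift_base _ _ _ _
    have hψπ : ∀ i, ψ ≫ WidePullback.π g i = fs i := fun i => WidePullback.lift_π _ _ _ _ i
    haveI : IsIso φ := by
      refine ⟨ψ, WidePullback.hom_ext _ _ _ (fun i => ?_) ?_, ?_⟩
      · rw [Category.assoc, hψπ, Category.id_comp]
        induction i using Fin.lastCases with
        | last => simp only [fs, Fin.lastCases_last]; exact hl
        | cast i => simp only [fs, Fin.lastCases_castSucc]; exact hp i
      · rw [Category.assoc, hψb, Category.id_comp]
        exact hb
      · refine pullback.hom_ext (WidePullback.hom_ext _ _ _ (fun i => ?_) ?_) ?_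
        · rw [Category.assoc, Category.assoc, Category.id_comp, hp, hψπ]
          simp only [fs, Fin.lastCases_castSucc]
        · rw [Category.assoc, Category.assoc, Category.id_comp, hb, hψb]
        · rw [Category.assoc, Category.id_comp, hl, hψπ]
          simp only [fs, Fin.lastCases_last]
    haveI : IsProper (pullback.fst (WidePullback.base g') (g (Fin.last m))) :=
      MorphismProperty.pullback_fst _ _ inferInstance
    rw [← hb]
    infer_instance

end Groth.Agent.BlowSep
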