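import Groth.Agent.BlowSep.Separate
import Groth.Agent.BlowSep.WideProper
import Groth.Agent.Props.SubIdeal
import Groth.Agent.BlowUp.Glue
import Mathlib.RingTheory.Nakayama

/-!
# Emptying an intersection of closures in a product by admissible blow-ups
-/

set_option autoImplicit false

universe u

open CategoryTheory CategoryTheory.Limits AlgebraicGeometry TopologicalSpace

noncomputable section

namespace Groth.Agent.BlowSep

open IntMult (stalkIdeal)
open Groth.Agent.IdealSh

variable {S X U : Scheme.{u}} {m : ℕ} (gX : X ⟶ S) [IsSeparated gX]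
  (Xi Xb : Fin m → Scheme.{u}) (gb : ∀ i, Xb i ⟶ S) [∀ i, IsProper (gb i)]
  (o : ∀ i, Xi i ⟶ Xb i) [∀ i, IsOpenImmersion (o i)]
  (q : ∀ i, Xi i ⟶ X) [∀ i, IsProper (q i)] (hq : ∀ i, q i ≫ gX = o i ≫ gb i)
  (jU : U ⟶ X) (v : ∀ i, U ⟶ Xi i) (hv : ∀ i, v i ≫ q i = jU)
  (w : ∀ i, (v i ≫ o i) ≫ gb i = jU ≫ gX)

include hq hv in
/-- On the closure of `U` in the product one projection is in `X_i` only if all are. -/
theorem proj_mem (z : (widePullback S Xb gb : Scheme.{u}))
    (hz : z ∈ closure (Set.range (fun x => (WidePullback.lift (jU ≫ gX) (fun i => v i ≫ o i) w) x)))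
    (i j : Fin m) (hi : WidePullback.π gb i z ∈ Set.range (o i)) :
    WidePullback.π gb j z ∈ Set.range (o j) := by
  let L := WidePullback.lift (jU ≫ gX) (fun i => v i ≫ o i) w
  let O : (widePullback S Xb gb).Opens := WidePullback.π gb i ⁻¹ᵁ (o i).opensRange
  let T := pullback (o i ≫ gb i) (gb j)
  let R := pullback (q i) (q j)
  let h : R ⟶ T := pullback.lift (pullback.fst _ _) (pullback.snd (q i) (q j) ≫ o j)
    (by rw [← hq i, ← Category.assoc, pullback.condition, Category.assoc, hq j, Category.assoc])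
  haveI : IsProper (pullback.fst (q i) (q j)) := MorphismProperty.pullback_fst _ _ inferInstance
  haveI : IsSeparated (pullback.fst (o i ≫ gb i) (gb j)) := MorphismProperty.pullback_fst _ _ inferInstance
  haveI : IsProper (h ≫ pullback.fst (o i ≫ gb i) (gb j)) := by
    rw [pullback.lift_fst]; infer_instance
  haveI : IsProper h := IsProper.of_comp h (pullback.fst (o i ≫ gb i) (gb j))
  have hOi : Set.range (O.ι ≫ WidePullback.π gb i) ⊆ Set.range (o i) := by
    rintro _ ⟨t, rfl⟩
    exact t.2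
  let α : (O : Scheme.{u}) ⟶ T := pullback.lift (IsOpenImmersion.lift (o i) _ hOi) (O.ι ≫ WidePullback.π gb j)
    (by rw [← Category.assoc, IsOpenImmersion.lift_fac, Category.assoc, WidePullback.π_arrow, Category.assoc,
      WidePullback.π_arrow])
  have hLO : Set.range L ⊆ Set.range O.ι := by
    rintro _ ⟨x, rfl⟩
    rw [O.range_ι]
    show WidePullback.π gb i (L x) ∈ Set.range (o i)
    rw [← Scheme.Hom.comp_apply, WidePullback.lift_π, Scheme.Hom.comp_apply]
    exact ⟨_, rfl⟩
  let L' : U ⟶ (O : Scheme.{u}) := IsOpenImmersion.lift O.ι L hLO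
  let β : U ⟶ R := pullback.lift (v i) (v j) (by rw [hv, hv])
  have hαβ : L' ≫ α = β ≫ h := by
    refine pullback.hom_ext ?_ ?_
    · rw [Category.assoc, Category.assoc, pullback.lift_fst, pullback.lift_fst, pullback.lift_fst,
        ← cancel_mono (o i), Category.assoc, IsOpenImmersion.lift_fac, IsOpenImmersion.lift_fac_assoc,
        WidePullback.lift_π]
    · rw [Category.assoc, Category.assoc, pullback.lift_snd, pullback.lift_snd, pullback.lift_snd_assoc,
        IsOpenImmersion.lift_fac_assoc, WidePullback.lift_π]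
  let z' : (O : Scheme.{u}) := ⟨z, hi⟩
  have hz' : z' ∈ closure (Set.range L') := by
    have h1 : z' ∈ O.ι ⁻¹' closure (Set.range L) := hz
    rw [O.ι.isOpenEmbedding.isOpenMap.preimage_closure_eq_closure_preimage O.ι.continuous] at h1
    refine closure_mono ?_ h1
    rintro t ⟨x, hx⟩
    refine ⟨x, O.ι.isOpenEmbedding.injective ?_⟩
    rw [← Scheme.Hom.comp_apply, IsOpenImmersion.lift_fac]
    exact hx
  have h2 : α z' ∈ Set.range h := by
    have h3 := image_closure_subset_closure_image α.continuous ⟨z', hz', rfl⟩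
    refine h.isClosedMap.isClosed_range.closure_subset_iff.mpr ?_ h3
    rintro _ ⟨_, ⟨x, rfl⟩, rfl⟩
    exact ⟨β x, by rw [← Scheme.Hom.comp_apply, ← hαβ, Scheme.Hom.comp_apply]⟩
  obtain ⟨r, hr⟩ := h2
  have h4 := congrArg (pullback.snd (o i ≫ gb i) (gb j)) hr
  rw [← Scheme.Hom.comp_apply, ← Scheme.Hom.comp_apply, pullback.lift_snd, pullback.lift_snd,
    Scheme.Hom.comp_apply, Scheme.Hom.comp_apply] at h4
  exact ⟨_, h4⟩

variable [CompactSpace S] [QuasiSeparatedSpace S] [∀ i, QuasiCompact (o i)]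

include hq hv in
/-- Admissible blow-ups emptying the intersection of closures. -/
theorem exists_separate (Y : ∀ i, (Xi i).IdealSheafData) (hY : ∀ i, BlowUp.IsFiniteTypeIdeal (Y i))
    (hempty : ∀ z ∈ closure (Set.range (fun x => (WidePullback.lift (jU ≫ gX) (fun i => v i ≫ o i) w) x)),
      ∃ i, (WidePullback.π gb i) z ∉ (fun x => o i x) '' ((Y i).support : Set (Xi i))) :
    ∃ (𝓔 : ∀ i, (Xb i).IdealSheafData) (Xb' : Fin m → Scheme.{u}) (c : ∀ i, Xb' i ⟶ Xb i)
      (v' : ∀ i, U ⟶ Xb' i) (w' : ∀ i, v' i ≫ c i ≫ gb i = jU ≫ gX),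
      (∀ i, BlowUp.IsBlowUp (c i) (𝓔 i) ∧ BlowUp.IsAdmissibleFor (o i).opensRange (𝓔 i) ∧
        v' i ≫ c i = v i ≫ o i) ∧
      ∀ z ∈ closure (Set.range (fun x => (WidePullback.lift (jU ≫ gX) (fun i => v' i) w') x)),
        ∃ i, (WidePullback.π (fun i => c i ≫ gb i) i) z ∉
          closure ((fun y => c i y) ⁻¹' ((fun x => o i x) '' ((Y i).support : Set (Xi i)))) := by
  classical
  haveI hXc : ∀ i, CompactSpace (Xb i) := fun i => QuasiCompact.compactSpace_of_compactSpace (gb i)
  haveI hXs : ∀ i, QuasiSeparatedSpace (Xb i) := fun i => quasiSeparatedSpace_of_quasiSeparated (gb i)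
  haveI hXic : ∀ i, CompactSpace (Xi i) := fun i => QuasiCompact.compactSpace_of_compactSpace (o i)
  -- the ideals cutting out the `Y i` inside `X_i`
  let G : ∀ i, (Xb i).Opens := fun i =>
    o i ''ᵁ (⟨((Y i).support : Set (Xi i))ᶜ, (Y i).support.isClosed.isOpen_compl⟩ : (Xi i).Opens)
  have hG : ∀ i, IsCompact (G i : Set (Xb i)) := fun i =>
    (Props.SubIdeal.isCompact_of_ideal (X := Xi i)
      (U := ⟨((Y i).support : Set (Xi i))ᶜ, (Y i).support.isClosed.isOpen_compl⟩)
      (hY i) (compl_compl _).symm).image (o i).continuous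
  choose J hJft hJs using fun i => Props.SubIdeal.exists_ideal (G i) (hG i)
  choose B hBft hBs using fun i => Props.SubIdeal.exists_ideal (o i).opensRange
    (by rw [Scheme.Hom.coe_opensRange]; exact isCompact_range (o i).continuous)
  have hJY : ∀ i, (fun x => o i x) '' ((Y i).support : Set (Xi i)) ⊆ ((J i).support : Set (Xb i)) := by
    rintro i _ ⟨x, hx, rfl⟩
    rw [hJs]
    rintro ⟨x', hx', he⟩
    exact hx' ((o i).isOpenEmbedding.injective he ▸ hx)
  -- the ideal upstairs
  set L := WidePullback.lift (jU ≫ gX) (fun i => v i ≫ o i) w with hL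
  let Zc : Closeds (widePullback S Xb gb : Scheme.{u}) := ⟨closure (Set.range L), isClosed_closure⟩
  let Jt : (widePullback S Xb gb).IdealSheafData :=
    (⨆ j, (J j).comap (WidePullback.π gb j)) ⊔ Scheme.IdealSheafData.vanishingIdeal Zc
  haveI := isProper_base gb
  haveI : CompactSpace (widePullback S Xb gb : Scheme.{u}) :=
    QuasiCompact.compactSpace_of_compactSpace (WidePullback.base gb)
  have hpow : ∀ i, ∃ n : ℕ, ((B i) ^ (n + 1)).comap (WidePullback.π gb i) ≤ Jt := by
    intro i
    haveI : QuasiCompact (WidePullback.π gb i) := QuasiCompact.of_comp _ (terminal.from (Xb i))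
    obtain ⟨n, hn⟩ := exists_pow_le (B i) (Jt.map (WidePullback.π gb i)) (hBft i) (by
      rw [Scheme.IdealSheafData.support_map, hBs]
      refine closure_minimal ?_ (o i).opensRange.2.isClosed_compl
      rintro _ ⟨z, hz, rfl⟩ hzi
      have hzK : z ∈ closure (Set.range L) := by
        have h1 := Scheme.IdealSheafData.support_antitone
          (le_sup_right : Scheme.IdealSheafData.vanishingIdeal Zc ≤ Jt) hz
        have h2 : z ∈ ((Scheme.IdealSheafData.vanishingIdeal Zc).support : Set _) := h1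
        rw [Scheme.IdealSheafData.coe_support_vanishingIdeal] at h2
        exact h2
      obtain ⟨j, hj⟩ := hempty z hzK
      obtain ⟨x, hx⟩ := proj_mem gX Xi Xb gb o q hq jU v hv w z hzK i j hzi
      have h2 := Scheme.IdealSheafData.support_antitone
        ((le_iSup (fun j => (J j).comap (WidePullback.π gb j)) j).trans le_sup_left : _ ≤ Jt) hz
      rw [Scheme.IdealSheafData.support_comap] at h2
      have h3 : WidePullback.π gb j z ∈ ((J j).support : Set (Xb j)) := h2
      rw [hJs] at h3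
      refine h3 ⟨x, ?_, hx⟩
      exact fun hxY => hj ⟨x, hxY, hx⟩)
    refine ⟨n, Scheme.IdealSheafData.le_map_iff_comap_le.mp fun W => ?_⟩
    refine le_trans ?_ (hn W)
    rw [Scheme.IdealSheafData.ideal_pow, Scheme.IdealSheafData.ideal_pow]
    exact Ideal.pow_le_pow_right n.le_succ
  choose n hn using hpow
  let E : ∀ i, (Xb i).IdealSheafData := fun i => J i ⊔ (B i) ^ (n i + 1)
  have hadm : ∀ i, BlowUp.IsAdmissibleFor (o i).opensRange (E i) := by
    refine fun i => ⟨fun W => ?_, ?_⟩
    · rw [Scheme.IdealSheafData.ideal_sup, Pi.sup_apply]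
      refine Submodule.FG.sup (hJft i W) ?_
      rw [Scheme.IdealSheafData.ideal_pow]
      exact Ideal.FG.pow (hBft i W)
    · refine Set.disjoint_left.mpr fun x hx => ?_
      have h1 := Scheme.IdealSheafData.support_antitone (le_sup_right : (B i) ^ (n i + 1) ≤ E i) hx
      rw [Scheme.IdealSheafData.support_pow_succ] at h1
      exact (Set.ext_iff.mp (hBs i) x).mp h1
  choose Xb' c hc using fun i => Groth.Agent.BlowUp.Glue.exists_isBlowUp (Xb i) (E i)
  have hlift : ∀ i, ∃ v' : U ⟶ Xb' i, v' ≫ c i = v i ≫ o i := by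
    intro i
    have htop : (E i).comap (v i ≫ o i) = ⊤ := IdealSh.Comap.comap_eq_top_of_disjoint _ _
      (Set.disjoint_left.mpr (by
        rintro _ ⟨x, rfl⟩ hx
        exact Set.disjoint_left.mp (hadm i).2 hx ⟨v i x, (Scheme.Hom.comp_apply (v i) (o i) x).symm⟩))
    exact ((hc i).2 U (v i ≫ o i) (htop ▸ EffCartier.top)).exists
  choose v' hv' using hlift
  have w' : ∀ i, v' i ≫ c i ≫ gb i = jU ≫ gX := fun i => by rw [← Category.assoc, hv']; exact w i
  refine ⟨E, Xb', c, v', w', fun i => ⟨hc i, hadm i, hv' i⟩, ?_⟩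
  set gb' := fun i => c i ≫ gb i with hgb'
  set L' := WidePullback.lift (jU ≫ gX) (fun i => v' i) w' with hL'
  intro z hz
  by_contra hcon
  simp only [not_exists, not_not] at hcon
  let mm : widePullback S Xb' gb' ⟶ widePullback S Xb gb :=
    WidePullback.lift (WidePullback.base gb') (fun i => WidePullback.π gb' i ≫ c i)
      (fun i => by rw [Category.assoc]; exact WidePullback.π_arrow gb' i)
  have hmπ : ∀ i, mm ≫ WidePullback.π gb i = WidePullback.π gb' i ≫ c i := fun i =>
    WidePullback.lift_π _ _ _ _ i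
  have hLm : L' ≫ mm = L := by
    refine WidePullback.hom_ext _ _ _ (fun i => ?_) ?_
    · rw [Category.assoc, hmπ, ← Category.assoc, WidePullback.lift_π, WidePullback.lift_π, hv']
    · rw [Category.assoc, WidePullback.lift_base, WidePullback.lift_base, WidePullback.lift_base]
  have hmz : mm z ∈ closure (Set.range L) := by
    have h1 := image_closure_subset_closure_image mm.continuous ⟨z, hz, rfl⟩
    refine closure_mono ?_ h1
    rintro _ ⟨_, ⟨x, rfl⟩, rfl⟩
    exact ⟨x, by rw [← hLm]; exact Scheme.Hom.comp_apply L' mm x⟩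
  obtain ⟨i₀, -⟩ := hempty (mm z) hmz
  have hloc : ∀ i, ∃ (V : (Xb' i).affineOpens) (e : Γ(Xb' i, V.1)) (hV : WidePullback.π gb' i z ∈ V.1),
      ((J i ⊔ (B i) ^ (n i + 1)).comap (c i)).ideal V = Ideal.span {e} ∧
      stalkIdeal ((J i).comap (c i)) (WidePullback.π gb' i z) ≤
        Ideal.span {(Xb' i).presheaf.germ V.1 _ hV e} * IsLocalRing.maximalIdeal _ ∧
      (Xb' i).presheaf.germ V.1 _ hV e ∈ stalkIdeal (((B i) ^ (n i + 1)).comap (c i)) (WidePullback.π gb' i z) :=
    fun i => exists_generator (c i) (J i) ((B i) ^ (n i + 1)) (hc i).1 _ (hJY i) (by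
      rw [Scheme.IdealSheafData.support_pow_succ, hBs]
      exact Set.disjoint_left.mpr (by rintro _ hx ⟨x, -, rfl⟩; exact hx ⟨x, rfl⟩)) _ (hcon i)
  choose V e hV he hJle hBmem using hloc
  let ε : Fin m → (widePullback S Xb' gb').presheaf.stalk z := fun i =>
    (WidePullback.π gb' i).stalkMap z ((Xb' i).presheaf.germ (V i).1 _ (hV i) (e i))
  set A : Ideal ((widePullback S Xb' gb').presheaf.stalk z) := Ideal.span (Set.range ε) with hA
  set K := (Scheme.IdealSheafData.vanishingIdeal Zc).comap mm with hK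
  have hcm : ∀ i (I : (Xb i).IdealSheafData), (I.comap (c i)).comap (WidePullback.π gb' i) =
      (I.comap (WidePullback.π gb i)).comap mm := fun i I => by
    rw [← Scheme.IdealSheafData.comap_comp, ← hmπ, Scheme.IdealSheafData.comap_comp]
  have hAle : A ≤ stalkIdeal K z ⊔ IsLocalRing.maximalIdeal ((widePullback S Xb' gb').presheaf.stalk z) • A := by
    refine Ideal.span_le.mpr ?_
    rintro _ ⟨i, rfl⟩
    have h1 : ε i ∈ stalkIdeal ((((B i) ^ (n i + 1)).comap (c i)).comap (WidePullback.π gb' i)) z := by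
      rw [stalkIdeal_comap]
      exact Ideal.mem_map_of_mem _ (hBmem i)
    rw [hcm, stalkIdeal_comap] at h1
    have h2 := Ideal.map_mono (f := (mm.stalkMap z).hom) (stalkIdeal_mono (hn i) (mm z)) h1
    rw [stalkIdeal_sup, stalkIdeal_iSup, Ideal.map_sup, Ideal.map_iSup, ← stalkIdeal_comap] at h2
    refine SetLike.le_def.mp ?_ h2
    refine sup_le (iSup_le fun j => ?_) le_sup_left
    refine le_trans ?_ le_sup_right
    rw [← stalkIdeal_comap, ← hcm, stalkIdeal_comap]
    refine (Ideal.map_mono (hJle j)).trans ?_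
    rw [Ideal.map_mul, Ideal.map_span, Set.image_singleton, smul_eq_mul, mul_comm _ A]
    refine Ideal.mul_mono ((Ideal.span_singleton_le_iff_mem _).mpr (Ideal.subset_span ⟨j, rfl⟩))
      (Ideal.map_le_iff_le_comap.mpr fun a ha => map_nonunit ((WidePullback.π gb' j).stalkMap z).hom a ha)
  have hAK : A ≤ stalkIdeal K z :=
    Submodule.le_of_le_smul_of_le_jacobson_bot (Submodule.fg_span (Set.finite_range ε))
      (IsLocalRing.maximalIdeal_le_jacobson _) hAle
  -- spreading
  obtain ⟨W, hzW, hW⟩ := Comap.exists_affine_le z (WidePullback.π gb' i₀ ⁻¹ᵁ (V i₀).1) (hV i₀)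
  have heW : (((J i₀ ⊔ (B i₀) ^ (n i₀ + 1)).comap (c i₀)).comap (WidePullback.π gb' i₀)).ideal W =
      Ideal.span {((WidePullback.π gb' i₀).appLE (V i₀).1 W.1 hW).hom (e i₀)} :=
    Comap.ideal_comap_span_singleton _ _ (V i₀) W hW (he i₀)
  have hgerm : (widePullback S Xb' gb').presheaf.germ W.1 z hzW
      (((WidePullback.π gb' i₀).appLE (V i₀).1 W.1 hW).hom (e i₀)) ∈ stalkIdeal K z := by
    convert hAK (Ideal.subset_span ⟨i₀, rfl⟩) using 1
    show (widePullback S Xb' gb').presheaf.germ W.1 z hzW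
      ((widePullback S Xb' gb').presheaf.map (homOfLE hW).op ((WidePullback.π gb' i₀).app (V i₀).1 (e i₀))) = _
    rw [(widePullback S Xb' gb').presheaf.germ_res_apply]
    exact (Scheme.Hom.germ_stalkMap_apply _ _ _ _ _).symm
  obtain ⟨T, hzT, hT⟩ := exists_nhd_le W hzW heW hgerm
  obtain ⟨_, hxT, x, rfl⟩ := mem_closure_iff.mp hz T T.2 hzT
  have hEtop : stalkIdeal (((J i₀ ⊔ (B i₀) ^ (n i₀ + 1)).comap (c i₀)).comap (WidePullback.π gb' i₀)) (L' x) = ⊤ := by
    rw [stalkIdeal_eq_top_iff, Scheme.IdealSheafData.support_comap, Scheme.IdealSheafData.support_comap]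
    intro hh
    have h5 : (WidePullback.π gb' i₀ ≫ c i₀) (L' x) ∈ ((E i₀).support : Set (Xb i₀)) := hh
    rw [← Scheme.Hom.comp_apply, ← Category.assoc, WidePullback.lift_π, hv', Scheme.Hom.comp_apply] at h5
    exact Set.disjoint_left.mp (hadm i₀).2 h5 ⟨_, rfl⟩
  have hKtop := top_le_iff.mp (hEtop ▸ hT _ hxT)
  rw [stalkIdeal_eq_top_iff] at hKtop
  refine hKtop ?_
  rw [hK, Scheme.IdealSheafData.support_comap]
  show mm (L' x) ∈ ((Scheme.IdealSheafData.vanishingIdeal Zc).support : Set _)
  rw [Scheme.IdealSheafData.coe_support_vanishingIdeal]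
  exact subset_closure ⟨x, by rw [← hLm]; exact Scheme.Hom.comp_apply L' mm x⟩

end Groth.Agent.BlowSep
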