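import Groth.Agent.BlowSep.Disjoint
import Groth.Agent.IdealSh.EffCartier

/-!
# The two ideals of a separating blow-up near the closure of a set
-/

set_option autoImplicit false

universe u

open CategoryTheory CategoryTheory.Limits AlgebraicGeometry TopologicalSpace

noncomputable section

namespace Groth.Agent.BlowSep

open IntMult (stalkIdeal)
open Groth.Agent.IdealSh

variable {X : Scheme.{u}}

lemma stalkIdeal_iSup {ι : Type*} (I : ι → X.IdealSheafData) (x : X) :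
    stalkIdeal (⨆ i, I i) x = ⨆ i, stalkIdeal (I i) x := by
  obtain ⟨U, hU, -⟩ := Comap.exists_affine_le x ⊤ trivial
  simp_rw [stalkIdeal_eq _ U hU, Scheme.IdealSheafData.ideal_iSup, iSup_apply, Ideal.map_iSup]

/-- Near the closure of a set in `supp I₁` outside `supp I₂`, the blow-up of `I₁ + I₂` has `I₂` invertible
and `I₁` inside the maximal ideal times it. -/
theorem exists_generator {X' : Scheme.{u}} (q : X' ⟶ X) (I₁ I₂ : X.IdealSheafData)
    (hq : BlowUp.IsEffCartierIdeal ((I₁ ⊔ I₂).comap q)) (S : Set X) (h₁ : S ⊆ (I₁.support : Set X))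
    (h₂ : Disjoint (I₂.support : Set X) S) (x : X') (hx : x ∈ closure (q ⁻¹' S)) :
    ∃ (U : X'.affineOpens) (e : Γ(X', U.1)) (hxU : x ∈ U.1),
      ((I₁ ⊔ I₂).comap q).ideal U = Ideal.span {e} ∧
      stalkIdeal (I₁.comap q) x ≤ Ideal.span {X'.presheaf.germ U.1 x hxU e} * IsLocalRing.maximalIdeal _ ∧
      X'.presheaf.germ U.1 x hxU e ∈ stalkIdeal (I₂.comap q) x := by
  obtain ⟨U₀, hU₀, e, -, he⟩ := hq x
  set E := (I₁ ⊔ I₂).comap q with hE
  have hx₀ : x ∈ U₀.1 := hU₀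
  refine ⟨U₀, e, hx₀, he, ?_⟩
  set ε := X'.presheaf.germ U₀.1 x hx₀ e
  have hEst : stalkIdeal E x = Ideal.span {ε} := by
    rw [stalkIdeal_eq _ U₀ hx₀, he, Ideal.map_span, Set.image_singleton]
  have hn1 : ε ∉ stalkIdeal (I₁.comap q) x := by
    intro hmem
    obtain ⟨T, hT, hle⟩ := exists_nhd_le U₀ hx₀ he hmem
    obtain ⟨y, hyT, hyS⟩ := mem_closure_iff.mp hx T T.2 hT
    have h2top : stalkIdeal I₂ (q y) = ⊤ :=
      (stalkIdeal_eq_top_iff _ _).mpr fun hm => Set.disjoint_left.mp h₂ hm hyS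
    have hEtop : stalkIdeal E y = ⊤ := by
      rw [hE, stalkIdeal_comap, stalkIdeal_sup, h2top, sup_top_eq, Ideal.map_top]
    have h1top := top_le_iff.mp (hEtop ▸ hle y hyT)
    rw [stalkIdeal_eq_top_iff] at h1top
    refine h1top ?_
    rw [Scheme.IdealSheafData.support_comap]
    exact h₁ hyS
  have hsup : stalkIdeal (I₁.comap q) x ⊔ stalkIdeal (I₂.comap q) x = Ideal.span {ε} := by
    rw [← hEst, hE, stalkIdeal_comap, stalkIdeal_comap, stalkIdeal_comap, ← Ideal.map_sup, stalkIdeal_sup]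
  have h1le : stalkIdeal (I₁.comap q) x ≤ Ideal.span {ε} * IsLocalRing.maximalIdeal _ := by
    intro a ha
    obtain ⟨r, rfl⟩ := Ideal.mem_span_singleton.mp (hsup ▸ Ideal.mem_sup_left ha : a ∈ Ideal.span {ε})
    refine Ideal.mul_mem_mul (Ideal.mem_span_singleton_self ε) ((IsLocalRing.mem_maximalIdeal r).mpr fun hu => hn1 ?_)
    exact (Ideal.mul_unit_mem_iff_mem _ hu).mp ha
  refine ⟨h1le, ?_⟩
  obtain ⟨a, ha, b, hb, hab⟩ := Submodule.mem_sup.mp (hsup.symm ▸ Ideal.mem_span_singleton_self ε :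
    ε ∈ stalkIdeal (I₁.comap q) x ⊔ stalkIdeal (I₂.comap q) x)
  obtain ⟨r, hr, rfl⟩ := Ideal.mem_span_singleton_mul.mp (h1le ha)
  refine (Ideal.mul_unit_mem_iff_mem _ (IsLocalRing.isUnit_one_sub_self_of_mem_nonunits r
    ((IsLocalRing.mem_maximalIdeal r).mp hr))).mp (?_ : ε * (1 - r) ∈ _)
  convert hb using 1
  rw [mul_sub, mul_one, sub_eq_iff_eq_add, add_comm, hab]

end Groth.Agent.BlowSep
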