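import Groth.Agent.IdealSh.Stalk
import Groth.Agent.IdealSh.EffCartier

/-!
# Stalks of pulled back ideal sheaves; one locally principal ideal inside another
-/

set_option autoImplicit false

universe u

open CategoryTheory AlgebraicGeometry TopologicalSpace Opposite

noncomputable section

namespace Groth.Agent.BlowSep

open IntMult (stalkIdeal)
open Groth.Agent.IdealSh Groth.Agent.IdealSh.Comap

variable {X Y : Scheme.{u}}

lemma stalkIdeal_comap (f : X ⟶ Y) (I : Y.IdealSheafData) (x : X) :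
    stalkIdeal (I.comap f) x = (stalkIdeal I (f x)).map (f.stalkMap x).hom := by
  obtain ⟨U, hU, -⟩ := exists_affine_le (f x) ⊤ trivial
  obtain ⟨V, hV, hle⟩ := exists_affine_le x (f ⁻¹ᵁ U.1) hU
  rw [stalkIdeal_eq _ V hV, stalkIdeal_eq _ U hU, ideal_comap I f U V hle, Ideal.map_map, Ideal.map_map]
  congr 1
  refine RingHom.ext fun a => ?_
  show X.presheaf.germ V.1 x hV (X.presheaf.map (homOfLE hle).op (f.app U.1 a)) =
    f.stalkMap x (Y.presheaf.germ U.1 (f x) hU a)
  rw [X.presheaf.germ_res_apply, Scheme.Hom.germ_stalkMap_apply]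

lemma stalkIdeal_mono {I J : X.IdealSheafData} (h : I ≤ J) (x : X) : stalkIdeal I x ≤ stalkIdeal J x := by
  obtain ⟨U, hU, -⟩ := exists_affine_le x ⊤ trivial
  rw [stalkIdeal_eq _ U hU, stalkIdeal_eq _ U hU]
  exact Ideal.map_mono (h U)

lemma stalkIdeal_sup (I J : X.IdealSheafData) (x : X) :
    stalkIdeal (I ⊔ J) x = stalkIdeal I x ⊔ stalkIdeal J x := by
  obtain ⟨U, hU, -⟩ := exists_affine_le x ⊤ trivial
  rw [stalkIdeal_eq _ U hU, stalkIdeal_eq _ U hU, stalkIdeal_eq _ U hU, Scheme.IdealSheafData.ideal_sup,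
    Pi.sup_apply, Ideal.map_sup]

/-- Containment of a locally principal ideal spreads to a neighbourhood. -/
lemma exists_nhd_le {E J : X.IdealSheafData} {x : X} (U : X.affineOpens) (hx : x ∈ U.1) {e : Γ(X, U.1)}
    (he : E.ideal U = Ideal.span {e}) (h : X.presheaf.germ U.1 x hx e ∈ stalkIdeal J x) :
    ∃ T : X.Opens, x ∈ T ∧ ∀ y ∈ T, stalkIdeal E y ≤ stalkIdeal J y := by
  letI := TopCat.Presheaf.algebra_section_stalk X.presheaf (⟨x, hx⟩ : U.1)
  haveI := U.2.isLocalization_stalk ⟨x, hx⟩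
  rw [stalkIdeal_eq _ U hx] at h
  obtain ⟨s, hs, hse⟩ := (IsLocalization.algebraMap_mem_map_algebraMap_iff
    (U.2.primeIdealOf ⟨x, hx⟩).asIdeal.primeCompl (X.presheaf.stalk x) (J.ideal U) e).mp h
  refine ⟨X.basicOpen s, (X.mem_basicOpen s x hx).mpr
    (IsLocalization.map_units (X.presheaf.stalk x) (⟨s, hs⟩ : (U.2.primeIdealOf ⟨x, hx⟩).asIdeal.primeCompl)), fun y hy => ?_⟩
  have hyU : y ∈ U.1 := X.basicOpen_le s hy
  rw [stalkIdeal_eq _ U hyU, stalkIdeal_eq _ U hyU, he, Ideal.map_span, Set.image_singleton,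
    Ideal.span_singleton_le_iff_mem]
  refine (Ideal.unit_mul_mem_iff_mem _ ((X.mem_basicOpen s y hyU).mp hy)).mp ?_
  rw [← map_mul]
  exact Ideal.mem_map_of_mem _ hse

end Groth.Agent.BlowSep
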